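import Cfsg.Agent.E8Three.Spec.Kac
import Mathlib.FieldTheory.IsAlgClosed.Basic
import Mathlib.FieldTheory.Perfect
import Mathlib.LinearAlgebra.Matrix.Charpoly.Coeff

/-!
The eigenvalues on the adjoint module of the elements of `E₈(3)` of order prime to 3.
-/

set_option autoImplicit false
set_option linter.style.haveILetI false

namespace CfsgLib.E8Three

open Cfsg.Lie CfsgLib.Chev CfsgLib.Chev.Tab Matrix Polynomial

/-- The dot product of two lists. -/
def ldot (p a : List ℕ) : ℕ := (List.zipWith (· * ·) p a).sum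

/-- The multiplicities of the powers of a root of unity for Kac coordinates. -/
def mvec (n : ℕ) (a : List ℕ) : List ℕ :=
  (List.range n).map fun k => (if k = 0 then 8 else 0) +
    posRoots.countP (fun p => ldot p a % n == k) +
    posRoots.countP (fun p => (n - ldot p a % n) % n == k)

/-- Invariance under cubing. -/
def cubeInv (n : ℕ) (v : List ℕ) : Bool :=
  (List.range n).all fun k => v.getD k 0 == v.getD (3 * k % n) 0

/-- The possible multiplicity vectors for the order `n`. -/
def classVecs (n : ℕ) : List (List ℕ) := ((kac n).map (mvec n)).filter (cubeInv n)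

/-- The exponents of the eigenvalues of a torus element. -/
def expVec (b : Fin chevE8.rank → ℤ) : chevE8.Idx → ℤ :=
  Sum.elim (fun _ => 0) fun r => val b r

/-- The number of eigenvalues with a given residue. -/
def cnt (n : ℕ) (b : Fin chevE8.rank → ℤ) (k : ℤ) : ℕ :=
  (Finset.univ.filter fun x : chevE8.Idx => (n : ℤ) ∣ expVec b x - k).card

theorem val_congr {n : ℕ} {b b' : Fin chevE8.rank → ℤ} (h : ∀ j, (n : ℤ) ∣ b j - b' j)
    (r : Fin chevE8.nroots) : (n : ℤ) ∣ val b r - val b' r := by
  rw [val, val, ← Finset.sum_sub_distrib]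
  exact Finset.dvd_sum fun j _ => by
    rw [← mul_sub]; exact (h j).mul_left _

theorem cnt_congr {n : ℕ} {b b' : Fin chevE8.rank → ℤ} (h : ∀ j, (n : ℤ) ∣ b j - b' j) (k : ℤ) :
    cnt n b k = cnt n b' k := by
  refine congrArg Finset.card (Finset.filter_congr fun x _ => ?_)
  rcases x with i | r
  · rfl
  · have h1 := val_congr h r
    show (n : ℤ) ∣ val b r - k ↔ (n : ℤ) ∣ val b' r - k
    constructor <;> intro h2
    · have := dvd_sub h2 h1; rwa [sub_sub_sub_cancel_left] at this
    · have := dvd_add h1 h2; rwa [sub_add_sub_cancel] at this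

theorem cnt_perm {n : ℕ} {b b' : Fin chevE8.rank → ℤ} (σ : Equiv.Perm (Fin chevE8.nroots))
    (h : ∀ r, val b' r = val b (σ r)) (k : ℤ) : cnt n b' k = cnt n b k := by
  refine Finset.card_equiv (Equiv.sumCongr (Equiv.refl _) σ) fun x => ?_
  simp only [Finset.mem_filter, Finset.mem_univ, true_and]
  rcases x with i | r
  · rfl
  · show (n : ℤ) ∣ val b' r - k ↔ (n : ℤ) ∣ val b (σ r) - k
    rw [h]

theorem posRoots_len : posRoots.length = 120 := by decide +kernel

theorem posRoots_len8 : posRoots.all (fun p => p.length == 8) = true := by decide +kernel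

theorem cor_lit {s : ℕ} (hs : s < 120) (j : Fin chevE8.rank) :
    E8Data.tab.cor (120 + s) j.val = ((posRoots.getD s []).getD j.val 0 : ℕ) ∧
      E8Data.tab.cor (119 - s) j.val = -(((posRoots.getD s []).getD j.val 0 : ℕ) : ℤ) := by
  have hs' : s < posRoots.length := by rw [posRoots_len]; exact hs
  have hl : (posRoots.getD s []).length = 8 := by
    rw [List.getD_eq_getElem _ _ hs']
    exact beq_iff_eq.mp (List.all_eq_true.mp posRoots_len8 _ (List.getElem_mem hs'))
  have hj : j.val < (posRoots.getD s []).length := by rw [hl]; exact j.isLt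
  have key : ∀ f : ℕ → ℕ → ℤ, ((List.range 120).map fun r => (List.range 8).map (f r)) =
      (posRoots.map fun p => p.map Int.ofNat) →
      f s j.val = (((posRoots.getD s []).getD j.val 0 : ℕ) : ℤ) := fun f h => by
    have h1 := congrArg (fun l : List (List ℤ) => (l.getD s []).getD j.val 0) h
    simp only [List.getD_eq_getElem?_getD, List.getElem?_map, List.getElem?_range hs,
      Option.map_some, Option.getD_some, List.getElem?_range (show j.val < 8 from j.isLt)] at h1
    rw [h1, List.getElem?_eq_getElem hs', Option.map_some, Option.getD_some]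
    simp only [List.getElem?_map]
    rw [List.getD_eq_getElem _ _ hj]
    simp only [List.getD_eq_getElem _ _ hs']
    rw [List.getElem?_eq_getElem (show j.val < posRoots[s].length by
      rwa [List.getD_eq_getElem _ _ hs'] at hj)]
    rfl
  refine ⟨key (fun r i => E8Data.tab.cor (120 + r) i) cor_pos_eq, ?_⟩
  have := key (fun r i => -E8Data.tab.cor (119 - r) i) cor_neg_eq
  linarith

/-- A vector of natural numbers as exponents. -/
def natVec (a : List ℕ) : Fin chevE8.rank → ℤ := fun j => (a.getD j.val 0 : ℕ)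

theorem ldot_eq {p a : List ℕ} (hp : p.length = 8) (ha : a.length = 8) :
    ldot p a = ∑ j : Fin 8, p.getD j.val 0 * a.getD j.val 0 := by
  rw [ldot, show List.zipWith (· * ·) p a =
    List.ofFn fun j : Fin 8 => p.getD j.val 0 * a.getD j.val 0 from ?_, List.sum_ofFn]
  refine List.ext_getElem (by simp [hp, ha]) fun i h1 h2 => ?_
  simp only [List.getElem_zipWith, List.getElem_ofFn]
  rw [List.getD_eq_getElem, List.getD_eq_getElem]

theorem val_pos_lit {a : List ℕ} (ha : a.length = 8) {s : ℕ} (hs : s < 120)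
    (h1 : 120 + s < chevE8.nroots) (h2 : 119 - s < chevE8.nroots) :
    val (natVec a) ⟨120 + s, h1⟩ = (ldot (posRoots.getD s []) a : ℕ) ∧
      val (natVec a) ⟨119 - s, h2⟩ = -((ldot (posRoots.getD s []) a : ℕ) : ℤ) := by
  have hs' : s < posRoots.length := by rw [posRoots_len]; exact hs
  have hl : (posRoots.getD s []).length = 8 := by
    rw [List.getD_eq_getElem _ _ hs']
    exact beq_iff_eq.mp (List.all_eq_true.mp posRoots_len8 _ (List.getElem_mem hs'))
  rw [ldot_eq hl ha]
  constructor
  · simp only [val, natVec, (cor_lit hs _).1]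
    push_cast
    rfl
  · simp only [val, natVec, (cor_lit hs _).2, neg_mul, Finset.sum_neg_distrib]
    push_cast
    rfl

/-- Splitting a count over the roots into positive and negative roots. -/
theorem card_roots (P : Fin chevE8.nroots → Prop) [DecidablePred P] :
    (Finset.univ.filter P).card =
      (List.range 120).countP (fun s => if h : 120 + s < chevE8.nroots then decide (P ⟨_, h⟩) else false) +
      (List.range 120).countP (fun s => if h : 119 - s < chevE8.nroots then decide (P ⟨_, h⟩) else false) := by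
  have hn : chevE8.nroots = 240 := rfl
  have hc : ∀ q : ℕ → Bool, (List.range 120).countP q =
      ((Finset.range 120).filter fun s => q s = true).card := fun q => by
    rw [List.countP_eq_length_filter, ← List.toFinset_card_of_nodup (List.nodup_range.filter _)]
    congr 1
    ext
    simp
  rw [hc, hc]
  classical
  rw [← Finset.card_filter_add_card_filter_not (s := Finset.univ.filter P)
    (fun r : Fin chevE8.nroots => 120 ≤ r.val)]
  congr 1
  · refine Finset.card_bij (fun r _ => r.val - 120) (fun r hr => ?_) (fun r hr t ht e => ?_)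
      fun s hs => ?_
    · simp only [Finset.mem_filter, Finset.mem_univ, true_and] at hr
      have := r.isLt
      have e : (⟨120 + (r.val - 120), by omega⟩ : Fin chevE8.nroots) = r :=
        Fin.ext (Nat.add_sub_cancel' hr.2)
      simp only [Finset.mem_filter, Finset.mem_range]
      refine ⟨by omega, ?_⟩
      rw [dif_pos (by omega), decide_eq_true_eq, e]
      exact hr.1
    · simp only [Finset.mem_filter] at hr ht
      exact Fin.ext (by omega)
    · simp only [Finset.mem_filter, Finset.mem_range] at hs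
      have h : 120 + s < chevE8.nroots := by omega
      rw [dif_pos h, decide_eq_true_eq] at hs
      exact ⟨⟨_, h⟩, by simp [hs.2], by simp⟩
  · refine Finset.card_bij (fun r _ => 119 - r.val) (fun r hr => ?_) (fun r hr t ht e => ?_)
      fun s hs => ?_
    · simp only [Finset.mem_filter, Finset.mem_univ, true_and] at hr
      have := r.isLt
      have e : (⟨119 - (119 - r.val), by omega⟩ : Fin chevE8.nroots) = r := Fin.ext (by
        show 119 - (119 - r.val) = r.val
        omega)
      simp only [Finset.mem_filter, Finset.mem_range]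
      refine ⟨by omega, ?_⟩
      rw [dif_pos (by omega), decide_eq_true_eq, e]
      exact hr.1
    · simp only [Finset.mem_filter, not_le] at hr ht
      exact Fin.ext (by omega)
    · simp only [Finset.mem_filter, Finset.mem_range] at hs
      have h : 119 - s < chevE8.nroots := by omega
      rw [dif_pos h, decide_eq_true_eq] at hs
      exact ⟨⟨_, h⟩, by simp [hs.2]; omega, by simp; omega⟩

theorem countP_range (q : List ℕ → Bool) :
    posRoots.countP q = (List.range 120).countP fun s => q (posRoots.getD s []) := by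
  have : posRoots = (List.range 120).map fun s => posRoots.getD s [] := by decide +kernel
  conv_lhs => rw [this, List.countP_map]
  rfl

theorem cnt_natVec {n : ℕ} (hn : 0 < n) {a : List ℕ} (ha : a.length = 8) {k : ℕ} (hk : k < n) :
    cnt n (natVec a) k = (mvec n a).getD k 0 := by
  classical
  rw [mvec, List.getD_eq_getElem _ _ (by simpa using hk), List.getElem_map, List.getElem_range,
    countP_range, countP_range, cnt,
    show (Finset.univ.filter fun x : chevE8.Idx => (n : ℤ) ∣ expVec (natVec a) x - k).card =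
      (Finset.univ.filter fun x : Fin chevE8.rank => (n : ℤ) ∣ (0 : ℤ) - k).card +
      (Finset.univ.filter fun r : Fin chevE8.nroots => (n : ℤ) ∣ val (natVec a) r - k).card from ?_,
    card_roots, add_assoc]
  swap
  · rw [← Finset.card_disjSum]
    refine congrArg Finset.card (Finset.ext fun x => ?_)
    simp only [Finset.mem_filter, Finset.mem_univ, true_and, Finset.mem_disjSum]
    rcases x with i | r
    · exact ⟨fun h => Or.inl ⟨i, h, rfl⟩, fun h => by
        rcases h with ⟨j, hj, e⟩ | ⟨j, hj, e⟩
        · exact hj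
        · simp at e⟩
    · exact ⟨fun h => Or.inr ⟨r, h, rfl⟩, fun h => by
        rcases h with ⟨j, hj, e⟩ | ⟨j, hj, e⟩
        · simp at e
        · rw [← Sum.inr_injective e]; exact hj⟩
  have hres : ∀ x : ℤ, (n : ℤ) ∣ x - k ↔ x % n = k := fun x => by
    rw [← Int.emod_eq_emod_iff_emod_sub_eq_zero.trans
      (Int.dvd_iff_emod_eq_zero ..).symm, Int.emod_eq_of_lt (by positivity) (by exact_mod_cast hk :
        (k : ℤ) < n)]
  congr 1
  · by_cases h0 : k = 0
    · subst h0; simp; rfl
    · rw [if_neg h0, Finset.filter_false_of_mem, Finset.card_empty]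
      intro x _ h
      rw [hres, Int.zero_emod] at h
      omega
  congr 1 <;> refine List.countP_congr fun s hs => ?_ <;> rw [List.mem_range] at hs
  · have h : 120 + s < chevE8.nroots := by show 120 + s < 240; omega
    rw [dif_pos h, decide_eq_true_eq, hres,
      (val_pos_lit ha hs h (show 119 - s < 240 by omega)).1, beq_iff_eq]
    omega
  · have h : 119 - s < chevE8.nroots := by show 119 - s < 240; omega
    rw [dif_pos h, decide_eq_true_eq, hres,
      (val_pos_lit ha hs (show 120 + s < 240 by omega) h).2, beq_iff_eq]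
    set d := ldot (posRoots.getD s []) a
    have h1 : ((n - d % n) % n : ℕ) = (-(d : ℤ)) % n := by
      rw [Int.natCast_mod, Nat.cast_sub (Nat.mod_lt _ hn).le, Int.natCast_mod,
        Int.sub_emod, Int.emod_self, Int.emod_emod, zero_sub]
      exact (Int.mod_modEq (d : ℤ) n).neg
    rw [← h1]
    exact Nat.cast_inj

theorem length_of_mem_kac {n : ℕ} {a : List ℕ} (h : a ∈ kac n) : a.length = 8 := by
  have : ∀ (ms : List ℕ) (n : ℕ) (a : List ℕ), a ∈ kacAux ms n → a.length = ms.length := by
    intro ms
    induction ms with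
    | nil => intro n a h; simp [kacAux] at h; simp [h]
    | cons m ms ih =>
      intro n a h
      simp only [kacAux, List.mem_flatMap, List.mem_map] at h
      obtain ⟨x, -, l, hl, rfl⟩ := h
      simp [ih _ _ hl]
  exact this marks n a h

/-- The vector of counts. -/
def cntVec (n : ℕ) (b : Fin chevE8.rank → ℤ) : List ℕ :=
  (List.range n).map fun k : ℕ => cnt n b (k : ℤ)

/-- Every count vector is one of Kac coordinates. -/
theorem cntVec_mem {n : ℕ} (hn : 0 < n) (b : Fin chevE8.rank → ℤ) :
    cntVec n b ∈ (kac n).map (mvec n) := by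
  obtain ⟨b', σ, hσ, a, ha, hdiv⟩ := kac_reduce hn b
  refine List.mem_map.mpr ⟨a, ha, ?_⟩
  refine List.ext_getElem (by simp [mvec, cntVec]) fun k h1 h2 => ?_
  have hk : k < n := by simpa [cntVec] using h2
  simp only [cntVec, List.getElem_map, List.getElem_range]
  rw [← cnt_perm σ hσ, cnt_congr (b' := natVec a) hdiv, cnt_natVec hn (length_of_mem_kac ha) hk,
    List.getD_eq_getElem _ _ h1]

section Eigen

variable {K : Type} [Field K] [IsAlgClosed K] [Algebra (ZMod 3) K] [DecidableEq K]

/-- The eigenvalues over `K` of a matrix over the prime field. -/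
noncomputable def eig (K : Type) [Field K] [Algebra (ZMod 3) K]
    (x : Matrix chevE8.Idx chevE8.Idx (ZMod 3)) : Multiset K :=
  (x.map (algebraMap (ZMod 3) K)).charpoly.roots

theorem toral_eig {n : ℕ} (hn : ¬ 3 ∣ n) {ξ : K} (hξ : IsPrimitiveRoot ξ n)
    {x : GL chevE8.Idx (ZMod 3)} (hx : x ∈ chevE8.group (ZMod 3)) (hxn : x ^ n = 1) :
    ∃ b : Fin chevE8.rank → ℤ,
      (∀ e : ℕ, eig K ((x ^ e : GL chevE8.Idx (ZMod 3)) : Matrix chevE8.Idx chevE8.Idx (ZMod 3)) =
          Finset.univ.val.map (fun i => ξ ^ ((e : ℤ) * expVec b i))) ∧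
      ∀ k : ℤ, cnt n b (3 * k) = cnt n b k := by
  haveI : Fact (Nat.Prime 3) := ⟨Nat.prime_three⟩
  haveI : NeZero n := ⟨fun e => hn (e ▸ dvd_zero 3)⟩
  obtain ⟨F, hF, hF', f, a, ha, c, hc⟩ := toralE8 hn hx hxn
  letI := f.toAlgebra
  let g : F →+* K := (IsAlgClosed.lift (R := ZMod 3) (S := F) (M := K)).toRingHom
  have hg : g.comp f = algebraMap (ZMod 3) K := RingHom.ext_zmod _ _
  set d : Fin chevE8.rank → Kˣ := fun i => Units.map g.toMonoidHom (c i)
  have hconj : glMap chevE8 g a * glMap chevE8 (algebraMap (ZMod 3) K) x * (glMap chevE8 g a)⁻¹ =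
      E8Data.tab.hT K d := by
    rw [← hg, ← glMap_comp, ← good_E8.glMap_hT, ← hc, map_mul, map_mul, map_inv]
  have hinj : Function.Injective (E8Data.tab.hT K) := (injective_iff_map_eq_one _).mpr fun a ha =>
    good_E8.sc_hT_inj InvolData.scE8 ha
  have hdn : d ^ n = 1 := hinj (by
    rw [map_pow, map_one, ← hconj, conj_pow, ← map_pow, hxn, map_one, mul_one, mul_inv_cancel])
  -- the exponents
  have hb : ∀ j : Fin chevE8.rank, ∃ b : ℤ,
      ξ ^ b = (E8Data.tab.chi (F := K) (chevE8.simple j) d : K) := fun j => by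
    obtain ⟨b, -, hb⟩ := hξ.eq_pow_of_pow_eq_one
      (ξ := (E8Data.tab.chi (F := K) (chevE8.simple j) d : K)) (by
        rw [← Units.val_pow_eq_pow_val, ← map_pow, hdn, map_one, Units.val_one])
    exact ⟨b, by rw [_root_.zpow_natCast]; exact hb⟩
  choose b hb using hb
  let ξu : Kˣ := (hξ.isUnit (NeZero.ne n)).unit
  have hξu : (ξu : K) = ξ := rfl
  have hpow : ∀ z : ℤ, ((ξu ^ z : Kˣ) : K) = ξ ^ z := fun z => by
    rw [Units.val_zpow_eq_zpow_val, hξu]
  obtain ⟨B, hB⟩ := exists_cochar good_E8 InvolData.scE8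
  obtain ⟨w, hw, -⟩ := hB b
  have hdw : d = Good.expo ξu w := by
    refine funext fun k => ?_
    rw [← sc_recover InvolData.scE8 d k, ← sc_recover InvolData.scE8 (Good.expo ξu w) k]
    refine Finset.prod_congr rfl fun j _ => ?_
    congr 1
    refine Units.ext ?_
    rw [Good.chi_expo, hw, hpow, hb]
  have hdiag : (E8Data.tab.hT K d : Matrix chevE8.Idx chevE8.Idx K) =
      Matrix.diagonal fun i => ξ ^ expVec b i := by
    rw [E8Data.tab.coe_hT]
    refine congrArg Matrix.diagonal (funext fun i => ?_)
    rcases i with i | r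
    · simp [expVec]
    · simp only [Sum.elim_inr, expVec]
      rw [hdw, Good.chi_expo, hpow, dot_eq_val]
      exact congrArg (fun c => ξ ^ val c r) (funext hw)
  have hP : ∀ e : ℕ, (((x ^ e : GL chevE8.Idx (ZMod 3)) :
      Matrix chevE8.Idx chevE8.Idx (ZMod 3)).map (algebraMap (ZMod 3) K)).charpoly =
      (Finset.univ.val.map fun i =>
        Polynomial.X - Polynomial.C (ξ ^ ((e : ℤ) * expVec b i))).prod := by
    intro k
    rw [← Matrix.charpoly_units_conj (glMap chevE8 g a)]
    have e := congrArg (fun u : GL chevE8.Idx K => ((u ^ k : GL chevE8.Idx K) :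
      Matrix chevE8.Idx chevE8.Idx K)) hconj
    rw [conj_pow, ← map_pow] at e
    have hxm : ((glMap chevE8 (algebraMap (ZMod 3) K) (x ^ k) : GL chevE8.Idx K) :
        Matrix chevE8.Idx chevE8.Idx K) =
      ((x ^ k : GL chevE8.Idx (ZMod 3)) : Matrix chevE8.Idx chevE8.Idx (ZMod 3)).map
        (algebraMap (ZMod 3) K) := rfl
    simp only [Units.val_mul, Matrix.coe_units_inv, hxm, Units.val_pow_eq_pow_val] at e ⊢
    rw [e, hdiag, Matrix.diagonal_pow, Matrix.charpoly_diagonal]
    refine congrArg Multiset.prod (Multiset.map_congr rfl fun i _ => ?_)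
    rw [Pi.pow_apply, ← _root_.zpow_natCast, ← _root_.zpow_mul, mul_comm]
  have heig : ∀ e : ℕ, eig K ((x ^ e : GL chevE8.Idx (ZMod 3)) :
      Matrix chevE8.Idx chevE8.Idx (ZMod 3)) =
      Finset.univ.val.map (fun i => ξ ^ ((e : ℤ) * expVec b i)) := by
    intro e
    rw [eig, hP, ← Polynomial.roots_multiset_prod_X_sub_C
      (Finset.univ.val.map fun i => ξ ^ ((e : ℤ) * expVec b i)), Multiset.map_map]
    rfl
  refine ⟨b, heig, fun k => ?_⟩
  have hP1 := hP 1
  simp only [pow_one, Nat.cast_one, one_mul] at hP1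
  haveI : CharP K 3 := charP_of_injective_ringHom (algebraMap (ZMod 3) K).injective 3
  -- cubing fixes the eigenvalues
  have hfrob : (Finset.univ.val.map fun i => (ξ ^ expVec b i) ^ 3) =
      Finset.univ.val.map (fun i => ξ ^ expVec b i) := by
    have h1 : (((x : Matrix chevE8.Idx chevE8.Idx (ZMod 3)).map
        (algebraMap (ZMod 3) K)).charpoly).map (frobenius K 3) =
        ((x : Matrix chevE8.Idx chevE8.Idx (ZMod 3)).map (algebraMap (ZMod 3) K)).charpoly := by
      rw [Matrix.charpoly_map, Polynomial.map_map,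
        show (frobenius K 3).comp (algebraMap (ZMod 3) K) = algebraMap (ZMod 3) K from
          RingHom.ext_zmod _ _]
    rw [hP1, Polynomial.map_multiset_prod, Multiset.map_map] at h1
    have h2 := congrArg Polynomial.roots h1
    rw [← Function.comp_def, ← Multiset.map_map, ← Multiset.map_map] at h2
    simp only [Multiset.map_map, Function.comp_def, Polynomial.map_sub, Polynomial.map_X,
      Polynomial.map_C, frobenius_def] at h2
    rw [← Polynomial.roots_multiset_prod_X_sub_C (Finset.univ.val.map fun i => (ξ ^ expVec b i) ^ 3),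
      ← Polynomial.roots_multiset_prod_X_sub_C (Finset.univ.val.map fun i => ξ ^ expVec b i)]
    simpa only [Multiset.map_map, Function.comp_def] using h2
  have hcount : ∀ l : ℤ, (Finset.univ.val.map fun i => ξ ^ expVec b i).count (ξ ^ l) = cnt n b l := by
    intro l
    rw [Multiset.count_map, cnt, ← Finset.filter_val, Finset.card_val]
    refine congrArg Finset.card (Finset.filter_congr fun i _ => ?_)
    rw [← hξ.zpow_eq_one_iff_dvd, zpow_sub₀ (hξ.ne_zero (NeZero.ne n)),
      div_eq_one_iff_eq (zpow_ne_zero _ (hξ.ne_zero (NeZero.ne n)))]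
    exact eq_comm
  rw [← hcount, ← hcount]
  conv_lhs => rw [← hfrob, show ξ ^ (3 * k) = (fun t : K => t ^ 3) (ξ ^ k) by
    rw [mul_comm, _root_.zpow_mul]; exact zpow_natCast (ξ ^ k) 3]
  rw [← Function.comp_def (fun t : K => t ^ 3) (fun i => ξ ^ expVec b i), ← Multiset.map_map,
    Multiset.count_map_eq_count' (fun t : K => t ^ 3) _ (frobenius_inj K 3)]

theorem count_eig {n : ℕ} {ξ : K} (hn : n ≠ 0) (hξ : IsPrimitiveRoot ξ n)
    {b : Fin chevE8.rank → ℤ} (l : ℤ) :
    (Finset.univ.val.map fun i => ξ ^ expVec b i).count (ξ ^ l) = cnt n b l := by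
  rw [Multiset.count_map, cnt, ← Finset.filter_val, Finset.card_val]
  refine congrArg Finset.card (Finset.filter_congr fun i _ => ?_)
  rw [← hξ.zpow_eq_one_iff_dvd, zpow_sub₀ (hξ.ne_zero hn),
    div_eq_one_iff_eq (zpow_ne_zero _ (hξ.ne_zero hn))]
  exact eq_comm

/-- The multiplicities of the eigenvalues of an element form a class vector. -/
theorem eig_mem_classVecs {n : ℕ} (hn : ¬ 3 ∣ n) {ξ : K} (hξ : IsPrimitiveRoot ξ n)
    {x : GL chevE8.Idx (ZMod 3)} (hx : x ∈ chevE8.group (ZMod 3)) (hxn : x ^ n = 1) :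
    ((List.range n).map fun k : ℕ => (eig K (x : Matrix chevE8.Idx chevE8.Idx (ZMod 3))).count (ξ ^ k))
      ∈ classVecs n := by
  obtain ⟨b, he', hinv⟩ := toral_eig hn hξ hx hxn
  have he := he' 1
  simp only [pow_one, Nat.cast_one, one_mul] at he
  have hn0 : n ≠ 0 := fun e => hn (e ▸ dvd_zero 3)
  have e : ((List.range n).map fun k : ℕ =>
      (eig K (x : Matrix chevE8.Idx chevE8.Idx (ZMod 3))).count (ξ ^ k)) = cntVec n b := by
    refine List.map_congr_left fun k _ => ?_
    rw [he, ← count_eig hn0 hξ, zpow_natCast]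
  rw [e, classVecs, List.mem_filter]
  refine ⟨cntVec_mem (Nat.pos_of_ne_zero hn0) b, ?_⟩
  simp only [cubeInv, List.all_eq_true, List.mem_range, beq_iff_eq]
  intro k hk
  have hk3 : 3 * k % n < n := Nat.mod_lt _ (Nat.pos_of_ne_zero hn0)
  simp only [cntVec]
  rw [List.getD_eq_getElem _ _ (by simpa using hk), List.getD_eq_getElem _ _ (by simpa using hk3),
    List.getElem_map, List.getElem_map, List.getElem_range, List.getElem_range, ← hinv]
  refine congrArg Finset.card (Finset.filter_congr fun i _ => ?_)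
  have hm : (n : ℤ) ∣ ((3 * k % n : ℕ) : ℤ) - 3 * k := by
    rw [Int.natCast_mod, Nat.cast_mul]
    exact ⟨-((3 * (k : ℤ)) / n), by rw [Int.emod_def]; push_cast; ring⟩
  constructor <;> intro h2
  · have := dvd_sub h2 hm; rwa [show expVec b i - 3 * (k : ℤ) - (((3 * k % n : ℕ) : ℤ) - 3 * k) =
      expVec b i - ((3 * k % n : ℕ) : ℤ) by ring] at this
  · have := dvd_add h2 hm; rwa [sub_add_sub_cancel] at this

/-- The fixed multiplicity of a power. -/
theorem count_pow_eq {n m e : ℕ} (hnm : n = e * m) (hn : n ≠ 0) {ξ : K} (hξ : IsPrimitiveRoot ξ n)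
    {b : Fin chevE8.rank → ℤ} :
    (Finset.univ.val.map fun i => ξ ^ ((e : ℤ) * expVec b i)).count 1 = cnt m b 0 := by
  rw [Multiset.count_map, cnt, ← Finset.filter_val, Finset.card_val]
  refine congrArg Finset.card (Finset.filter_congr fun i _ => ?_)
  rw [sub_zero, eq_comm, hξ.zpow_eq_one_iff_dvd, hnm, Nat.cast_mul]
  exact mul_dvd_mul_iff_left (Nat.cast_ne_zero.mpr fun h => hn (by rw [hnm, h, zero_mul]))

end Eigen

/-- The exponents of the second factor. -/
def ysAux (n : ℕ) : List ℕ → List (List ℕ)
  | [] => [[]]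
  | a :: as => (if a = 0 then List.range n else [0]).flatMap fun y => (ysAux n as).map (y :: ·)

/-- The fixed multiplicity of a product of two commuting torus elements. -/
def jfix (n1 d : ℕ) (a y : List ℕ) : ℕ :=
  8 + 2 * posRoots.countP (fun p => ldot p a % n1 == 0 && ldot p y % d == 0)

/-- The roots killed by `a` live on the zero set of `a`. -/
def leviChk (n1 : ℕ) (a : List ℕ) : Bool :=
  posRoots.all fun p => !(ldot p a % n1 == 0) ||
    (List.zipWith (· * ·) p a).all (fun t => t == 0)

theorem mem_ysAux (n : ℕ) : ∀ (as : List ℕ) (y : List ℕ), y.length = as.length →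
    (∀ j, j < as.length → y.getD j 0 < n ∧ (as.getD j 0 ≠ 0 → y.getD j 0 = 0)) →
    y ∈ ysAux n as := by
  intro as
  induction as with
  | nil => intro y hy _; simp [ysAux, List.length_eq_zero_iff.mp hy]
  | cons a as ih =>
    intro y hy h
    obtain ⟨x, y, rfl⟩ := List.exists_cons_of_length_pos (l := y) (by simp [hy])
    have h0 := h 0 (by simp)
    simp only [List.getD_cons_zero] at h0
    simp only [ysAux, List.mem_flatMap, List.mem_map]
    refine ⟨x, ?_, y, ih y (by simpa using hy) (fun j hj => by
      simpa using h (j + 1) (by simpa using hj)), rfl⟩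
    split_ifs with ha
    · exact List.mem_range.mpr h0.1
    · exact List.mem_singleton.mpr (h0.2 ha)

/-- The joint fixed multiplicities for a product of two coprime orders. -/
theorem spec_joint {n1 n2 : ℕ} (h1 : 0 < n1) (h2 : 0 < n2) (hcop : n1.Coprime n2)
    (b : Fin chevE8.rank → ℤ)
    (hP : ∀ a ∈ kac n1, mvec n1 a = cntVec n1 b → leviChk n1 a = true) :
    ∃ a ∈ kac n1, mvec n1 a = cntVec n1 b ∧ ∃ y ∈ ysAux n2 a,
      ∀ d, d ∣ n2 → cnt (n1 * d) b 0 = jfix n1 d a y := by
  obtain ⟨b', σ, hσ, a, ha, hdiv⟩ := kac_reduce h1 b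
  have hlen := length_of_mem_kac ha
  have hvec : mvec n1 a = cntVec n1 b := by
    refine List.ext_getElem (by simp [mvec, cntVec]) fun k h h' => ?_
    have hk : k < n1 := by simpa [cntVec] using h'
    simp only [cntVec, List.getElem_map, List.getElem_range]
    rw [← cnt_perm σ hσ, cnt_congr (b' := natVec a) hdiv, cnt_natVec h1 hlen hk,
      List.getD_eq_getElem _ _ h]
  refine ⟨a, ha, hvec, ?_⟩
  set y : List ℕ := List.ofFn fun j : Fin chevE8.rank =>
    if a.getD j.val 0 = 0 then (b' j % n2).toNat else 0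
  have hy8 : y.length = 8 := List.length_ofFn
  have hn2 : (n2 : ℤ) ≠ 0 := by positivity
  refine ⟨y, mem_ysAux _ _ _ (by rw [hy8, hlen]) fun j hj => ?_, fun d hd => ?_⟩
  · have hj8 : j < chevE8.rank := by rw [hlen] at hj; exact hj
    rw [List.getD_eq_getElem y 0 (by rw [hy8]; rw [hlen] at hj; exact hj), List.getElem_ofFn]
    dsimp only
    split_ifs with h
    · have := Int.emod_lt_of_pos (b' ⟨j, hj8⟩) (show (0 : ℤ) < n2 by positivity)
      have := Int.emod_nonneg (b' ⟨j, hj8⟩) hn2
      exact ⟨by omega, fun h' => absurd h h'⟩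
    · exact ⟨h2, fun _ => rfl⟩
  have hd0 : 0 < d := Nat.pos_of_dvd_of_pos hd h2
  have hcd : n1.Coprime d := hcop.coprime_dvd_right hd
  rw [← cnt_perm σ hσ]
  -- the root counts
  have hroot : ∀ (r : Fin chevE8.nroots) (p : List ℕ), p ∈ posRoots → p.length = 8 →
      ((∀ j : Fin chevE8.rank, E8Data.tab.cor r.val j.val = ((p.getD j.val 0 : ℕ) : ℤ)) ∨
        ∀ j : Fin chevE8.rank, E8Data.tab.cor r.val j.val = -((p.getD j.val 0 : ℕ) : ℤ)) →
      ((((n1 * d : ℕ) : ℤ) ∣ val b' r) ↔
        (ldot p a % n1 == 0 && ldot p y % d == 0) = true) := by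
    intro r p hp hp8 hc
    have hval : ∀ c, ((n1 * d : ℕ) : ℤ) ∣ val c r ↔ ((n1 * d : ℕ) : ℤ) ∣
        ∑ j : Fin chevE8.rank, ((p.getD j.val 0 : ℕ) : ℤ) * c j := fun c => by
      rcases hc with h | h
      · rw [val, Finset.sum_congr rfl fun j _ => by rw [h j]]
      · rw [val, Finset.sum_congr rfl fun j _ => by rw [h j, neg_mul],
          Finset.sum_neg_distrib, dvd_neg]
    rw [hval, Bool.and_eq_true, beq_iff_eq, beq_iff_eq, Nat.cast_mul,
      ← Nat.dvd_iff_mod_eq_zero, ← Nat.dvd_iff_mod_eq_zero]
    have hS1 : (n1 : ℤ) ∣ ∑ j : Fin chevE8.rank, ((p.getD j.val 0 : ℕ) : ℤ) * b' j ↔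
        n1 ∣ ldot p a := by
      rw [← Int.natCast_dvd_natCast, ldot_eq hp8 hlen]
      push_cast
      refine dvd_iff_dvd_of_dvd_sub ?_
      erw [← Finset.sum_sub_distrib]
      exact Finset.dvd_sum fun j _ => by rw [← mul_sub]; exact (hdiv j).mul_left _
    have hS2 : n1 ∣ ldot p a → ((d : ℤ) ∣ ∑ j : Fin chevE8.rank,
        ((p.getD j.val 0 : ℕ) : ℤ) * b' j ↔ d ∣ ldot p y) := by
      intro h1d
      have hz : ∀ j : Fin chevE8.rank, a.getD j.val 0 ≠ 0 → p.getD j.val 0 = 0 := by
        intro j hj
        have hc := List.all_eq_true.mp (hP a ha hvec) p hp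
        simp only [Bool.or_eq_true, Bool.not_eq_true', beq_eq_false_iff_ne, List.all_eq_true,
          beq_iff_eq] at hc
        rcases hc with hc | hc
        · exact absurd (Nat.mod_eq_zero_of_dvd h1d) hc
        · have hjp : j.val < p.length := by rw [hp8]; exact j.isLt
          have hja : j.val < a.length := by rw [hlen]; exact j.isLt
          have := hc (p[j.val] * a[j.val]) (List.mem_iff_getElem.mpr
            ⟨j.val, by simp [hjp, hja], by simp⟩)
          rw [List.getD_eq_getElem _ _ hja] at hj
          rw [List.getD_eq_getElem _ _ hjp]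
          exact (Nat.mul_eq_zero.mp this).resolve_right hj
      rw [← Int.natCast_dvd_natCast (n := ldot p y), ldot_eq hp8 hy8]
      push_cast
      refine dvd_iff_dvd_of_dvd_sub ?_
      erw [← Finset.sum_sub_distrib]
      refine Finset.dvd_sum fun j _ => ?_
      rw [← mul_sub, List.getD_eq_getElem y 0 (by rw [hy8]; exact j.isLt), List.getElem_ofFn]
      dsimp only
      by_cases hj : a.getD j.val 0 = 0
      · refine dvd_mul_of_dvd_right ?_ _
        rw [if_pos hj, Int.toNat_of_nonneg (Int.emod_nonneg _ hn2)]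
        exact (Int.natCast_dvd_natCast.mpr hd).trans
          ⟨b' j / n2, by rw [Int.emod_def]; ring⟩
      · rw [hz j hj]
        simp
    constructor
    · intro h
      have ha' := hS1.mp ((dvd_mul_right _ _).trans h)
      exact ⟨ha', (hS2 ha').mp ((dvd_mul_left _ _).trans h)⟩
    · rintro ⟨ha', hy'⟩
      refine IsCoprime.mul_dvd ?_ (hS1.mpr ha') ((hS2 ha').mpr hy')
      exact Nat.Coprime.isCoprime hcd
  classical
  rw [cnt, show (Finset.univ.filter fun x : chevE8.Idx =>
      ((n1 * d : ℕ) : ℤ) ∣ expVec b' x - 0) =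
    (Finset.univ : Finset (Fin chevE8.rank)).disjSum
      (Finset.univ.filter fun r : Fin chevE8.nroots => ((n1 * d : ℕ) : ℤ) ∣ val b' r) from ?_,
    Finset.card_disjSum, card_roots, jfix, countP_range, two_mul]
  · refine congrArg₂ (· + ·) (Finset.card_univ.trans (Fintype.card_fin _))
      (congrArg₂ (· + ·) ?_ ?_) <;> refine List.countP_congr fun s hs => ?_ <;>
      rw [List.mem_range] at hs <;>
      have hmem : posRoots.getD s [] ∈ posRoots ∧ (posRoots.getD s []).length = 8 := by
        have hs' : s < posRoots.length := by rw [posRoots_len]; exact hs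
        rw [List.getD_eq_getElem _ _ hs']
        exact ⟨List.getElem_mem hs',
          beq_iff_eq.mp (List.all_eq_true.mp posRoots_len8 _ (List.getElem_mem hs'))⟩
    · have h : 120 + s < chevE8.nroots := by show 120 + s < 240; omega
      rw [dif_pos h, decide_eq_true_eq]
      exact hroot _ _ hmem.1 hmem.2 (Or.inl fun j => (cor_lit hs j).1)
    · have h : 119 - s < chevE8.nroots := by show 119 - s < 240; omega
      rw [dif_pos h, decide_eq_true_eq]
      exact hroot _ _ hmem.1 hmem.2 (Or.inr fun j => (cor_lit hs j).2)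
  · ext x
    simp only [Finset.mem_filter, Finset.mem_univ, true_and, Finset.mem_disjSum, sub_zero]
    rcases x with i | r
    · exact ⟨fun _ => Or.inl ⟨i, rfl⟩, fun _ => dvd_zero _⟩
    · exact ⟨fun h => Or.inr ⟨r, h, rfl⟩, fun h => by
        rcases h with ⟨j, e⟩ | ⟨j, hj, e⟩
        · simp at e
        · rw [← Sum.inr_injective e]; exact hj⟩

end CfsgLib.E8Three
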