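import Cfsg.Agent.E8Three.E8Lam

/-!
The reduction of exponent vectors of torus elements of `E₈` to Kac coordinates.
-/

set_option autoImplicit false
set_option linter.style.haveILetI false

namespace CfsgLib.E8Three

open Cfsg.Lie CfsgLib.Chev CfsgLib.Chev.Tab Matrix

/-- The positive roots of `E₈` in the coordinates of the fundamental roots. -/
def posRoots : List (List ℕ) := [
  [0,0,0,0,0,0,0,1], [0,0,0,0,0,0,1,0], [0,0,0,0,0,0,1,1], [0,0,0,0,0,1,0,0], [0,0,0,0,0,1,1,0],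
  [0,0,0,0,0,1,1,1], [0,0,0,0,1,0,0,0], [0,0,0,0,1,1,0,0], [0,0,0,0,1,1,1,0], [0,0,0,0,1,1,1,1],
  [0,0,0,1,0,0,0,0], [0,0,0,1,1,0,0,0], [0,0,0,1,1,1,0,0], [0,0,0,1,1,1,1,0], [0,0,0,1,1,1,1,1],
  [0,0,1,0,0,0,0,0], [0,0,1,1,0,0,0,0], [0,0,1,1,1,0,0,0], [0,0,1,1,1,1,0,0], [0,0,1,1,1,1,1,0],
  [0,0,1,1,1,1,1,1], [0,1,0,0,0,0,0,0], [0,1,0,1,0,0,0,0], [0,1,0,1,1,0,0,0], [0,1,0,1,1,1,0,0],
  [0,1,0,1,1,1,1,0], [0,1,0,1,1,1,1,1], [0,1,1,1,0,0,0,0], [0,1,1,1,1,0,0,0], [0,1,1,1,1,1,0,0],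
  [0,1,1,1,1,1,1,0], [0,1,1,1,1,1,1,1], [0,1,1,2,1,0,0,0], [0,1,1,2,1,1,0,0], [0,1,1,2,1,1,1,0],
  [0,1,1,2,1,1,1,1], [0,1,1,2,2,1,0,0], [0,1,1,2,2,1,1,0], [0,1,1,2,2,1,1,1], [0,1,1,2,2,2,1,0],
  [0,1,1,2,2,2,1,1], [0,1,1,2,2,2,2,1], [1,0,0,0,0,0,0,0], [1,0,1,0,0,0,0,0], [1,0,1,1,0,0,0,0],
  [1,0,1,1,1,0,0,0], [1,0,1,1,1,1,0,0], [1,0,1,1,1,1,1,0], [1,0,1,1,1,1,1,1], [1,1,1,1,0,0,0,0],
  [1,1,1,1,1,0,0,0], [1,1,1,1,1,1,0,0], [1,1,1,1,1,1,1,0], [1,1,1,1,1,1,1,1], [1,1,1,2,1,0,0,0],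
  [1,1,1,2,1,1,0,0], [1,1,1,2,1,1,1,0], [1,1,1,2,1,1,1,1], [1,1,1,2,2,1,0,0], [1,1,1,2,2,1,1,0],
  [1,1,1,2,2,1,1,1], [1,1,1,2,2,2,1,0], [1,1,1,2,2,2,1,1], [1,1,1,2,2,2,2,1], [1,1,2,2,1,0,0,0],
  [1,1,2,2,1,1,0,0], [1,1,2,2,1,1,1,0], [1,1,2,2,1,1,1,1], [1,1,2,2,2,1,0,0], [1,1,2,2,2,1,1,0],
  [1,1,2,2,2,1,1,1], [1,1,2,2,2,2,1,0], [1,1,2,2,2,2,1,1], [1,1,2,2,2,2,2,1], [1,1,2,3,2,1,0,0],
  [1,1,2,3,2,1,1,0], [1,1,2,3,2,1,1,1], [1,1,2,3,2,2,1,0], [1,1,2,3,2,2,1,1], [1,1,2,3,2,2,2,1],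
  [1,1,2,3,3,2,1,0], [1,1,2,3,3,2,1,1], [1,1,2,3,3,2,2,1], [1,1,2,3,3,3,2,1], [1,2,2,3,2,1,0,0],
  [1,2,2,3,2,1,1,0], [1,2,2,3,2,1,1,1], [1,2,2,3,2,2,1,0], [1,2,2,3,2,2,1,1], [1,2,2,3,2,2,2,1],
  [1,2,2,3,3,2,1,0], [1,2,2,3,3,2,1,1], [1,2,2,3,3,2,2,1], [1,2,2,3,3,3,2,1], [1,2,2,4,3,2,1,0],
  [1,2,2,4,3,2,1,1], [1,2,2,4,3,2,2,1], [1,2,2,4,3,3,2,1], [1,2,2,4,4,3,2,1], [1,2,3,4,3,2,1,0],
  [1,2,3,4,3,2,1,1], [1,2,3,4,3,2,2,1], [1,2,3,4,3,3,2,1], [1,2,3,4,4,3,2,1], [1,2,3,5,4,3,2,1],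
  [1,3,3,5,4,3,2,1], [2,2,3,4,3,2,1,0], [2,2,3,4,3,2,1,1], [2,2,3,4,3,2,2,1], [2,2,3,4,3,3,2,1],
  [2,2,3,4,4,3,2,1], [2,2,3,5,4,3,2,1], [2,2,4,5,4,3,2,1], [2,3,3,5,4,3,2,1], [2,3,4,5,4,3,2,1],
  [2,3,4,6,4,3,2,1], [2,3,4,6,5,3,2,1], [2,3,4,6,5,4,2,1], [2,3,4,6,5,4,3,1], [2,3,4,6,5,4,3,2]]

/-- The value of a linear function on a root, from its values on the fundamental roots. -/
def val (b : Fin chevE8.rank → ℤ) (r : Fin chevE8.nroots) : ℤ :=
  ∑ j, E8Data.tab.cor r.val j.val * b j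

/-- The marks of the extended diagram. -/
def marks : List ℕ := [2, 3, 4, 6, 5, 4, 3, 2]

/-- The vectors of Kac coordinates of weighted size at most `n`. -/
def kacAux : List ℕ → ℕ → List (List ℕ)
  | [], _ => [[]]
  | m :: ms, n => (List.range (n / m + 1)).flatMap fun a => (kacAux ms (n - m * a)).map (a :: ·)

/-- The Kac coordinates for the elements of order dividing `n`. -/
def kac (n : ℕ) : List (List ℕ) := kacAux marks n

theorem mem_kacAux : ∀ (ms : List ℕ) (n : ℕ) (a : List ℕ), (∀ m ∈ ms, 0 < m) →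
    a.length = ms.length → (List.zipWith (· * ·) ms a).sum ≤ n → a ∈ kacAux ms n := by
  intro ms
  induction ms with
  | nil => intro n a _ ha _; simp [kacAux, List.length_eq_zero_iff.mp ha]
  | cons m ms ih =>
    intro n a hm ha hs
    obtain ⟨x, a, rfl⟩ := List.exists_cons_of_length_pos (l := a) (by simp [ha])
    simp only [List.zipWith_cons_cons, List.sum_cons] at hs
    have hmp : 0 < m := hm m List.mem_cons_self
    simp only [kacAux, List.mem_flatMap, List.mem_range, List.mem_map]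
    refine ⟨x, Nat.lt_succ_of_le ((Nat.le_div_iff_mul_le hmp).mpr (by rw [mul_comm]; omega)), a,
      ih _ _ (fun k hk => hm k (List.mem_cons_of_mem _ hk)) (by simpa using ha) (by omega), rfl⟩

theorem cor_pos_eq : ((List.range 120).map fun r =>
    (List.range 8).map fun j => E8Data.tab.cor (120 + r) j) =
      posRoots.map fun p => p.map Int.ofNat := by decide +kernel

theorem cor_neg_eq : ((List.range 120).map fun r =>
    (List.range 8).map fun j => -E8Data.tab.cor (119 - r) j) =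
      posRoots.map fun p => p.map Int.ofNat := by decide +kernel

theorem wrow_lin_eq : ((List.range 240).map fun r =>
    (List.range 8).map fun i => ((List.range 8).map fun j =>
      E8Data.tab.cor r j * E8Data.tab.cart i (chevE8.simple j)).sum) =
    (List.range 240).map fun r => (List.range 8).map fun i => E8Data.tab.cart i r := by
  decide +kernel

theorem top_eq : ((List.range 8).map fun i =>
    ((List.range 240).map fun r => ((List.range 8).map fun j =>
      E8Data.tab.cor 239 j * E8Data.tab.cart j r).sum * E8Data.tab.cart i r).sum) =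
    (List.range 8).map fun i => 60 * E8Data.tab.cart i 239 := by decide +kernel

theorem top_sq : ((List.range 240).map fun r => (((List.range 8).map fun j =>
      E8Data.tab.cor 239 j * E8Data.tab.cart j r).sum) ^ 2).sum = 120 := by decide +kernel

theorem top_cor : (List.range 8).map (fun j => E8Data.tab.cor 239 j) =
    marks.map Int.ofNat := by decide +kernel

theorem map_range_inj {α : Type*} {n : ℕ} {f g : ℕ → α}
    (h : (List.range n).map f = (List.range n).map g) {i : ℕ} (hi : i < n) : f i = g i :=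
  List.map_inj_left.mp h i (List.mem_range.mpr hi)

theorem wrow_eq (r : Fin chevE8.nroots) (i : Fin chevE8.rank) :
    E8Data.tab.wrow r.val i =
      ∑ j : Fin chevE8.rank, E8Data.tab.cor r.val j.val * E8Data.tab.wrow (chevE8.simple j) i := by
  have h1 := map_range_inj (map_range_inj wrow_lin_eq r.isLt) i.isLt
  rw [list_sum_range] at h1
  exact h1.symm

theorem dot_eq_val (r : Fin chevE8.nroots) (w : Fin chevE8.rank → ℤ) :
    E8Data.tab.wrow r.val ⬝ᵥ w =
      val (fun j => E8Data.tab.wrow (chevE8.simple j) ⬝ᵥ w) r := by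
  simp only [val, dotProduct, wrow_eq r, Finset.sum_mul, Finset.mul_sum, mul_assoc]
  exact Finset.sum_comm ..

/-- The coroot of the highest root. -/
def topVec : Fin chevE8.rank → ℤ := fun j => E8Data.tab.cor 239 j.val

theorem top_dot (r : Fin chevE8.nroots) : E8Data.tab.wrow r.val ⬝ᵥ topVec =
    ((List.range 8).map fun j => E8Data.tab.cor 239 j * E8Data.tab.cart j r.val).sum := by
  rw [list_sum_range]
  exact Finset.sum_congr rfl fun j _ => mul_comm _ _

/-- The norm of an exponent vector. -/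
def nrm (w : Fin chevE8.rank → ℤ) : ℤ :=
  ∑ r : Fin chevE8.nroots, (E8Data.tab.wrow r.val ⬝ᵥ w) ^ 2

theorem nrm_shift (w : Fin chevE8.rank → ℤ) (n : ℤ) :
    nrm (w - n • topVec) =
      nrm w - 120 * n * ((E8Data.tab.wrow 239 ⬝ᵥ w) - n) := by
  have e1 : ∑ r : Fin chevE8.nroots,
      (E8Data.tab.wrow r.val ⬝ᵥ topVec) * (E8Data.tab.wrow r.val ⬝ᵥ w) =
      60 * (E8Data.tab.wrow 239 ⬝ᵥ w) := by
    simp only [dotProduct, Finset.mul_sum, ← mul_assoc]
    rw [Finset.sum_comm]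
    refine Finset.sum_congr rfl fun i _ => ?_
    rw [← Finset.sum_mul]
    congr 1
    have h := map_range_inj top_eq i.isLt
    rw [list_sum_range] at h
    refine Eq.trans (Finset.sum_congr rfl fun r _ => ?_) h
    rw [show (∑ x, E8Data.tab.wrow r.val x * topVec x) = E8Data.tab.wrow r.val ⬝ᵥ topVec from rfl,
      top_dot]
    rfl
  have e2 : ∑ r : Fin chevE8.nroots, (E8Data.tab.wrow r.val ⬝ᵥ topVec) ^ 2 = 120 := by
    have h := top_sq
    rw [list_sum_range] at h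
    refine Eq.trans (Finset.sum_congr rfl fun r _ => ?_) h
    rw [top_dot]
  simp only [nrm, dotProduct_sub, dotProduct_smul, smul_eq_mul]
  rw [show ∑ r : Fin chevE8.nroots, (E8Data.tab.wrow r.val ⬝ᵥ w -
      n * (E8Data.tab.wrow r.val ⬝ᵥ topVec)) ^ 2 =
      ∑ r : Fin chevE8.nroots, ((E8Data.tab.wrow r.val ⬝ᵥ w) ^ 2 -
        2 * n * ((E8Data.tab.wrow r.val ⬝ᵥ topVec) * (E8Data.tab.wrow r.val ⬝ᵥ w)) +
        n ^ 2 * (E8Data.tab.wrow r.val ⬝ᵥ topVec) ^ 2) from Finset.sum_congr rfl fun r _ => by ring,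
    Finset.sum_add_distrib, Finset.sum_sub_distrib, ← Finset.mul_sum, ← Finset.mul_sum, e1, e2]
  ring

/-- Every exponent vector is equivalent to Kac coordinates. -/
theorem kac_reduce_aux (n : ℕ) (hn : 0 < n) : ∀ (N : ℕ) (w : Fin chevE8.rank → ℤ),
    (nrm w).toNat = N → ∃ a ∈ kac n, ∃ σ ∈ good_E8.full.WJ (jList chevE8 Set.univ),
      ∀ r : Fin chevE8.nroots, (n : ℤ) ∣
        val (fun j => (a.getD j.val 0 : ℤ)) r - E8Data.tab.wrow (σ r).val ⬝ᵥ w := by
  intro N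
  induction N using Nat.strong_induction_on with
  | _ N ih =>
    intro w hN
    obtain ⟨L, hL, hdom⟩ := exists_dominant good_E8 (J := Set.univ) w
    set w' := E8Data.tab.vM L *ᵥ w
    have hW : good_E8.full.pw L ∈ good_E8.full.WJ (jList chevE8 Set.univ) := pw_mem_WJ good_E8 hL
    have hval : ∀ s, E8Data.tab.wrow (good_E8.full.pw L s).val ⬝ᵥ w' =
        E8Data.tab.wrow s.val ⬝ᵥ w := fun s => by
      rw [dotProduct_mulVec, good_E8.wrow_pw L s]
    have hback : ∀ r, E8Data.tab.wrow r.val ⬝ᵥ w' =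
        E8Data.tab.wrow ((good_E8.full.pw L).symm r).val ⬝ᵥ w := fun r => by
      rw [← hval, Equiv.apply_symm_apply]
    have hnrm : nrm w' = nrm w := by
      rw [nrm, nrm, ← Equiv.sum_comp (good_E8.full.pw L)
        fun r => (E8Data.tab.wrow r.val ⬝ᵥ w') ^ 2]
      exact Finset.sum_congr rfl fun s _ => by rw [hval]
    have htop : (239 : ℕ) < chevE8.nroots := by decide
    by_cases hle : E8Data.tab.wrow 239 ⬝ᵥ w' ≤ n
    · set b : Fin chevE8.rank → ℤ := fun j => E8Data.tab.wrow (chevE8.simple j) ⬝ᵥ w' with hb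
      have hb0 : ∀ j, 0 ≤ b j := fun j => hdom j (Set.mem_univ _)
      refine ⟨List.ofFn fun j => (b j).toNat, ?_, (good_E8.full.pw L)⁻¹, inv_mem hW, fun r => ?_⟩
      · refine mem_kacAux _ _ _ (by decide) (List.length_ofFn.trans (by decide)) ?_
        have hsum := dot_eq_val ⟨239, htop⟩ w'
        simp only [val] at hsum
        rw [hsum] at hle
        have hc : ∀ j : Fin chevE8.rank, E8Data.tab.cor 239 j.val = (marks.getD j.val 0 : ℕ) := by
          intro j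
          have h := congrArg (fun l : List ℤ => l.getD j.val 0) top_cor
          simp only [List.getD_eq_getElem?_getD, List.getElem?_map] at h
          rw [List.getElem?_range (show j.val < 8 from j.isLt)] at h
          simp only [Option.map_some, Option.getD_some] at h
          rw [h, List.getD_eq_getElem?_getD]
          cases marks[j.val]? <;> rfl
        have e : (List.zipWith (· * ·) marks (List.ofFn fun j => (b j).toNat)).sum =
            ∑ j : Fin chevE8.rank, marks.getD j.val 0 * (b j).toNat := by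
          rw [show List.zipWith (· * ·) marks (List.ofFn fun j => (b j).toNat) =
            List.ofFn fun j : Fin chevE8.rank => marks.getD j.val 0 * (b j).toNat from ?_,
            List.sum_ofFn]
          refine List.ext_getElem (by simp [marks]; decide) fun i h1 h2 => ?_
          simp only [List.getElem_zipWith, List.getElem_ofFn]
          rw [List.getD_eq_getElem]
        rw [e]
        have h2 : ((∑ j : Fin chevE8.rank, marks.getD j.val 0 * (b j).toNat : ℕ) : ℤ) ≤ n := by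
          refine le_trans (le_of_eq ?_) hle
          push_cast
          exact Finset.sum_congr rfl fun j _ => by
            rw [hc j]
            congr 1
            exact Int.toNat_of_nonneg (hb0 j)
        exact_mod_cast h2
      · rw [show E8Data.tab.wrow ((good_E8.full.pw L)⁻¹ r).val ⬝ᵥ w =
          E8Data.tab.wrow r.val ⬝ᵥ w' from (hback r).symm, dot_eq_val r w']
        refine Dvd.intro 0 ?_
        rw [mul_zero, eq_comm, sub_eq_zero]
        refine congrArg (fun c => val c r) (funext fun j => ?_)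
        rw [List.getD_eq_getElem _ _ (by rw [List.length_ofFn]; exact j.isLt), List.getElem_ofFn]
        exact Int.toNat_of_nonneg (hb0 j)
    · have hlt : nrm (w' - (n : ℤ) • topVec) < nrm w := by
        rw [nrm_shift, hnrm]
        have : (0 : ℤ) < n := by exact_mod_cast hn
        nlinarith [not_le.mp hle]
      have hnn : 0 ≤ nrm (w' - (n : ℤ) • topVec) := Finset.sum_nonneg fun r _ => sq_nonneg _
      obtain ⟨a, ha, σ, hσ, hdiv⟩ := ih _ (by omega) (w' - (n : ℤ) • topVec) rfl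
      refine ⟨a, ha, (good_E8.full.pw L)⁻¹ * σ, mul_mem (inv_mem hW) hσ, fun r => ?_⟩
      rw [show E8Data.tab.wrow (((good_E8.full.pw L)⁻¹ * σ) r).val ⬝ᵥ w =
        E8Data.tab.wrow (σ r).val ⬝ᵥ w' from (hback (σ r)).symm]
      have h := hdiv r
      rw [dotProduct_sub, dotProduct_smul, smul_eq_mul] at h
      have h2 := dvd_mul_right (n : ℤ) (E8Data.tab.wrow (σ r).val ⬝ᵥ topVec)
      have h3 := dvd_sub h h2
      rw [sub_sub, sub_add_cancel] at h3
      exact h3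

/-- Every exponent vector is equivalent to one congruent to Kac coordinates. -/
theorem kac_reduce {n : ℕ} (hn : 0 < n) (b : Fin chevE8.rank → ℤ) :
    ∃ (b' : Fin chevE8.rank → ℤ) (σ : Equiv.Perm (Fin chevE8.nroots)),
      (∀ r, val b' r = val b (σ r)) ∧
      ∃ a ∈ kac n, ∀ j : Fin chevE8.rank, (n : ℤ) ∣ b' j - (a.getD j.val 0 : ℤ) := by
  obtain ⟨B, hB⟩ := exists_cochar good_E8 InvolData.scE8
  obtain ⟨w, hw, -⟩ := hB b
  obtain ⟨a, ha, σ, hσ, hdiv⟩ := kac_reduce_aux n hn _ w rfl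
  obtain ⟨L, -, hL⟩ := good_E8.exists_word_WJ (inv_mem hσ)
  have hv : ∀ r, E8Data.tab.wrow (σ r).val ⬝ᵥ w = val b (σ r) := fun r => by
    rw [dot_eq_val]
    exact congrArg (fun c => val c (σ r)) (funext hw)
  have hv' : ∀ r, E8Data.tab.wrow r.val ⬝ᵥ (E8Data.tab.vM L *ᵥ w) =
      E8Data.tab.wrow (σ r).val ⬝ᵥ w := fun r => by
    have e := good_E8.wrow_pw L (σ r)
    rw [show good_E8.full.pw L (σ r) = r by rw [hL]; simp] at e
    rw [dotProduct_mulVec, e]
  refine ⟨fun j => E8Data.tab.wrow (chevE8.simple j) ⬝ᵥ (E8Data.tab.vM L *ᵥ w), σ,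
    fun r => by rw [← dot_eq_val, hv', hv], a, ha, fun j => ?_⟩
  have h := hdiv (good_E8.full.simp' j)
  rw [← hv'] at h
  have e : val (fun l => (a.getD l.val 0 : ℤ)) (good_E8.full.simp' j) = (a.getD j.val 0 : ℤ) := by
    simp only [val, good_E8.cor_simple]
    simp
  rw [e, dvd_sub_comm] at h
  exact h

end CfsgLib.E8Three
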